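import Mathlib.RingTheory.DividedPowers.Basic
import Mathlib.Data.Nat.Prime.Basic
import Mathlib.Algebra.GroupWithZero.Units.Basic
import Mathlib.Data.Nat.Choose.Lucas
import Mathlib.Data.Nat.Prime.Factorial
import Mathlib.Combinatorics.Enumerative.Bell
import Mathlib.Algebra.MvPolynomial.CommRing
import Mathlib.Algebra.MvPolynomial.Basic
import Mathlib.Algebra.Group.Subgroup.Lattice
import Mathlib.Tactic

/-!
# Divided powers from a `p`-th divided power

Let `d` satisfy the rules of a `p`-th divided power on `I`, in a ring where the integers prime to `p`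
are units.  The would-be `n`-th divided power is a unit multiple of a monomial `mon` in the iterates of
`d`.  All axioms are checked in `ℚ[s, X, Y] × A`: the additive group spanned by the monomials in
`(s, a)` and the divided powers of `(X, x)`, `(Y, y)` is closed under the operations and maps
injectively to `ℚ[s, X, Y]`.
-/

set_option autoImplicit false
set_option linter.style.haveILetI false

universe u v

namespace Groth.Agent.DPFromP

open Finset
open scoped Nat

variable (p : ℕ) [hp : Fact p.Prime]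

theorem div_lt {n : ℕ} (h : n ≠ 0) : n / p < n := Nat.div_lt_self (Nat.pos_of_ne_zero h) hp.out.one_lt

/-- The product of the `e i` over the base `p` digits of `n`. -/
def mon {R : Type u} [CommRing R] (e : ℕ → R) (n : ℕ) : R :=
  if h : n = 0 then 1 else
    have : n / p < n := div_lt p h
    e 0 ^ (n % p) * mon (fun i => e (i + 1)) (n / p)
  termination_by n

/-- `mon e n = x ^ n / K n` for divided powers of `x`. -/
def K (n : ℕ) : ℕ :=
  if h : n = 0 then 1 else
    have : n / p < n := div_lt p h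
    p ! ^ (n / p) * K (n / p)
  termination_by n

/-- `W n * K n = n!`; it is prime to `p`. -/
def W (n : ℕ) : ℕ :=
  if h : n = 0 then 1 else
    have : n / p < n := div_lt p h
    (n % p)! * n.choose (n % p) * Nat.uniformBell (n / p) p * W (n / p)
  termination_by n

theorem mon_eq {R : Type u} [CommRing R] (e : ℕ → R) (n : ℕ) :
    mon p e n = e 0 ^ (n % p) * mon p (fun i => e (i + 1)) (n / p) := by
  rcases eq_or_ne n 0 with rfl | hn
  · rw [Nat.zero_mod, Nat.zero_div, pow_zero, one_mul, mon, dif_pos rfl, mon, dif_pos rfl]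
  · rw [mon, dif_neg hn]

theorem mon_zero {R : Type u} [CommRing R] (e : ℕ → R) : mon p e 0 = 1 := by rw [mon, dif_pos rfl]

theorem K_eq (n : ℕ) : K p n = p ! ^ (n / p) * K p (n / p) := by
  rcases eq_or_ne n 0 with rfl | hn
  · simp [K]
  · rw [K, dif_neg hn]

theorem W_eq (n : ℕ) : W p n = (n % p)! * n.choose (n % p) * Nat.uniformBell (n / p) p * W p (n / p) := by
  rcases eq_or_ne n 0 with rfl | hn
  · simp [W, Nat.uniformBell_eq]
  · rw [W, dif_neg hn]

theorem K_ne_zero (n : ℕ) : K p n ≠ 0 := by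
  induction n using Nat.strong_induction_on with
  | _ n ih =>
    rw [K]
    split
    · exact one_ne_zero
    · next h => exact mul_ne_zero (pow_ne_zero _ (Nat.factorial_ne_zero _)) (ih _ (div_lt p h))

theorem W_mul_K (n : ℕ) : W p n * K p n = n ! := by
  induction n using Nat.strong_induction_on with
  | _ n ih =>
    rcases eq_or_ne n 0 with rfl | hn
    · simp [W, K]
    rw [W_eq, K_eq]
    have h1 := Nat.choose_mul_factorial_mul_factorial (Nat.mod_le n p)
    have h2 := Nat.uniformBell_mul_eq (n / p) (n := p) hp.out.ne_zero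
    have h3 : n - n % p = n / p * p := by have := Nat.div_add_mod' n p; omega
    rw [h3] at h1
    calc _ = n.choose (n % p) * (n % p)! * (Nat.uniformBell (n / p) p * p ! ^ (n / p) * (W p (n / p) * K p (n / p))) := by ring
      _ = n ! := by rw [ih _ (div_lt p hn), h2, h1]

theorem not_dvd_choose (N j : ℕ) (hj : j ≤ N % p) : ¬ p ∣ N.choose j := by
  intro h
  have := (Choose.choose_modEq_choose_mod_mul_choose_div_nat (n := N) (k := j) (p := p)).symm.trans
    (Nat.modEq_zero_iff_dvd.mpr h)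
  have hlt : j < p := hj.trans_lt (Nat.mod_lt _ hp.out.pos)
  rw [Nat.mod_eq_of_lt hlt, Nat.div_eq_of_lt hlt, Nat.choose_zero_right, mul_one, Nat.modEq_zero_iff_dvd] at this
  exact not_dvd_choose_lt N j this hj hlt
where
  not_dvd_choose_lt (N j : ℕ) (h : p ∣ (N % p).choose j) (hj : j ≤ N % p) (_ : j < p) : False := by
    have h2 := (Nat.choose_mul_factorial_mul_factorial hj) ▸ (Dvd.dvd.mul_right (Dvd.dvd.mul_right h j !) (N % p - j)!)
    exact absurd ((Nat.Prime.dvd_factorial hp.out).mp h2) (Nat.mod_lt _ hp.out.pos).not_ge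

theorem not_dvd_W (n : ℕ) : ¬ p ∣ W p n := by
  induction n using Nat.strong_induction_on with
  | _ n ih =>
    rcases eq_or_ne n 0 with rfl | hn
    · simpa [W] using hp.out.ne_one
    have hB : ∀ q, ¬ p ∣ Nat.uniformBell q p := by
      intro q
      induction q with
      | zero => simpa [Nat.uniformBell_eq] using hp.out.ne_one
      | succ q ihq =>
        rw [Nat.uniformBell_succ_left]
        refine hp.out.not_dvd_mul (not_dvd_choose p _ _ ?_) ihq
        have h1 : (q * p + p - 1) % p = p - 1 := by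
          rw [Nat.add_sub_assoc hp.out.one_le, add_comm, Nat.add_mul_mod_self_right,
            Nat.mod_eq_of_lt (Nat.sub_lt hp.out.pos one_pos)]
        rw [h1]
    rw [W_eq]
    refine hp.out.not_dvd_mul (hp.out.not_dvd_mul (hp.out.not_dvd_mul ?_ (not_dvd_choose p _ _ le_rfl)) (hB _))
      (ih _ (div_lt p hn))
    exact fun h => absurd (hp.out.dvd_factorial.mp h) (Nat.mod_lt _ hp.out.pos).not_ge

section Rule

variable {R : Type u} [CommRing R]

/-- `e i ^ p = p! * e (i + 1)`. -/
def Rule (e : ℕ → R) : Prop := ∀ i, e i ^ p = (p ! : R) * e (i + 1)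

theorem map_mon {S : Type v} [CommRing S] (f : R →+* S) (e : ℕ → R) (n : ℕ) :
    f (mon p e n) = mon p (fun i => f (e i)) n := by
  induction n using Nat.strong_induction_on generalizing e with
  | _ n ih =>
    rcases eq_or_ne n 0 with rfl | hn
    · rw [mon_zero, mon_zero, map_one]
    · rw [mon_eq, mon_eq p (fun i => f (e i)), map_mul, map_pow, ih _ (div_lt p hn)]

theorem K_mul_mon {e : ℕ → R} (he : Rule p e) (n : ℕ) : (K p n : R) * mon p e n = e 0 ^ n := by
  induction n using Nat.strong_induction_on generalizing e with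
  | _ n ih =>
    rcases eq_or_ne n 0 with rfl | hn
    · rw [mon_zero]; simp [K]
    · rw [mon_eq, K_eq]
      push_cast
      calc _ = e 0 ^ (n % p) * ((p ! : R) ^ (n / p) * ((K p (n / p) : R) * mon p (fun i => e (i + 1)) (n / p))) := by ring
        _ = e 0 ^ n := by
          rw [ih _ (div_lt p hn) (fun i => he (i + 1)), ← mul_pow, ← he 0, ← pow_mul, ← pow_add,
            Nat.mod_add_div]

theorem mon_of_lt (e : ℕ → R) {n : ℕ} (hn : n < p) : mon p e n = e 0 ^ n := by
  rw [mon_eq, Nat.mod_eq_of_lt hn, Nat.div_eq_of_lt hn, mon_zero, mul_one]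

theorem mon_pow (e : ℕ → R) (i : ℕ) : mon p e (p ^ i) = e i := by
  induction i generalizing e with
  | zero => rw [pow_zero, mon_of_lt p e hp.out.one_lt, pow_one]
  | succ i ih =>
    rw [mon_eq, pow_succ, Nat.mul_mod_left, Nat.mul_div_cancel _ hp.out.pos, pow_zero, one_mul, ih]

theorem mon_mul {e : ℕ → R} (he : Rule p e) (a b : ℕ) :
    ∃ c : ℕ, mon p e a * mon p e b = (c : R) * mon p e (a + b) := by
  induction h : a + b using Nat.strong_induction_on generalizing e a b with
  | _ N ih =>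
    subst h
    rcases eq_or_ne (a + b) 0 with h0 | h0
    · obtain ⟨rfl, rfl⟩ : a = 0 ∧ b = 0 := by omega
      exact ⟨1, by rw [mon_zero]; simp [mon_zero]⟩
    let e' : ℕ → R := fun i => e (i + 1)
    have he' : Rule p e' := fun i => he (i + 1)
    have hdiv := Nat.div_add_mod a p
    have hdiv' := Nat.div_add_mod b p
    have hp2 := hp.out.two_le
    have hqa : 2 * (a / p) ≤ p * (a / p) := Nat.mul_le_mul_right _ hp2
    have hqb : 2 * (b / p) ≤ p * (b / p) := Nat.mul_le_mul_right _ hp2
    obtain ⟨c, hc⟩ := ih (a / p + b / p) (by omega) he' (a / p) (b / p) rfl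
    rw [mon_eq p e a, mon_eq p e b, mon_eq p e (a + b)]
    rw [show e 0 ^ (a % p) * mon p e' (a / p) * (e 0 ^ (b % p) * mon p e' (b / p)) =
      e 0 ^ (a % p + b % p) * (mon p e' (a / p) * mon p e' (b / p)) by ring, hc]
    rcases lt_or_ge (a % p + b % p) p with hlt | hge
    · obtain ⟨h1, h2⟩ : (a + b) % p = a % p + b % p ∧ (a + b) / p = a / p + b / p := by
        rw [Nat.add_div hp.out.pos, if_neg (not_le.mpr hlt), Nat.add_mod, Nat.mod_eq_of_lt hlt]
        simp
      rw [h1, h2]
      exact ⟨c, by ring⟩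
    · obtain ⟨h1, h2⟩ : a % p + b % p = p + (a + b) % p ∧ (a + b) / p = 1 + (a / p + b / p) := by
        have := Nat.add_mod_add_of_le_add_mod hge
        refine ⟨by omega, ?_⟩
        rw [Nat.add_div hp.out.pos, if_pos hge]
        omega
      obtain ⟨c', hc'⟩ := ih (1 + (a / p + b / p)) (by omega) he' 1 (a / p + b / p) rfl
      rw [mon_of_lt p e' hp.out.one_lt, pow_one] at hc'
      rw [h1, h2, pow_add, he 0]
      refine ⟨p ! * c * c', ?_⟩
      push_cast
      calc _ = (p ! : R) * (c : R) * e 0 ^ ((a + b) % p) * (e (0 + 1) * mon p e' (a / p + b / p)) := by ring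
        _ = _ := by rw [show e (0 + 1) = e' 0 from rfl, hc']; ring

end Rule

section Data

variable {A : Type u} [CommRing A]

/-- The hypotheses on `d`. -/
structure Data (I : Ideal A) where
  d : A → A
  isUnit : ∀ n : ℕ, ¬ p ∣ n → IsUnit (n : A)
  mem : ∀ x ∈ I, d x ∈ I
  fact : ∀ x ∈ I, (p ! : A) * d x = x ^ p
  smul : ∀ (a x : A), x ∈ I → d (a * x) = a ^ p * d x
  add : ∀ x ∈ I, ∀ y ∈ I, d (x + y) = d x + d y +
    ((Finset.antidiagonal p).filter fun k => 0 < k.1 ∧ 0 < k.2).sum
      fun k => Ring.inverse ((k.1 ! * k.2 ! : ℕ) : A) * x ^ k.1 * y ^ k.2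

variable {p} {I : Ideal A} (D : Data p I)

/-- The `n`-th divided power. -/
noncomputable def Data.γ (n : ℕ) (x : A) : A :=
  Ring.inverse (W p n : A) * mon p (fun i => D.d^[i] x) n

abbrev P3 : Type := MvPolynomial (Fin 3) ℚ

/-- `f ^ p / p!`. -/
noncomputable def dQ (f : P3) : P3 := MvPolynomial.C ((p ! : ℚ)⁻¹) * f ^ p

variable (A) in
/-- The inverse of an integer prime to `p`. -/
noncomputable def iv (N : ℕ) : P3 × A := (MvPolynomial.C ((N : ℚ)⁻¹), Ring.inverse (N : A))

noncomputable def Data.DD (w : P3 × A) : P3 × A := (dQ (p := p) w.1, D.d w.2)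

noncomputable def Data.it (w : P3 × A) (i : ℕ) : P3 × A := D.DD^[i] w

theorem Data.it_zero (w : P3 × A) : D.it w 0 = w := rfl

theorem Data.it_succ (w : P3 × A) (i : ℕ) : D.it w (i + 1) = D.DD (D.it w i) :=
  Function.iterate_succ_apply' _ _ _

theorem Data.it_snd (w : P3 × A) (i : ℕ) : (D.it w i).2 = D.d^[i] w.2 := by
  induction i with
  | zero => rfl
  | succ i ih => rw [it_succ, Function.iterate_succ_apply', ← ih]; rfl

include D in
theorem Data.iter_mem {x : A} (hx : x ∈ I) (i : ℕ) : D.d^[i] x ∈ I := by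
  induction i with
  | zero => exact hx
  | succ i ih => rw [Function.iterate_succ_apply']; exact D.mem _ ih

theorem dQ_fact (f : P3) : (p ! : P3) * dQ (p := p) f = f ^ p := by
  rw [dQ, ← mul_assoc, ← map_natCast (MvPolynomial.C : ℚ →+* P3), ← map_mul,
    mul_inv_cancel₀ (Nat.cast_ne_zero.mpr (Nat.factorial_ne_zero p)), map_one, one_mul]

theorem Data.rule {w : P3 × A} (hw : w.2 ∈ I) : Rule p (D.it w) := fun i => by
  rw [it_succ]
  refine Prod.ext ?_ ?_
  · simp [Data.DD, dQ_fact]
  · simp only [Prod.pow_snd, Prod.snd_mul, Prod.snd_natCast, Data.DD]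
    rw [D.fact _ (by rw [it_snd]; exact D.iter_mem hw i)]

theorem Data.rule' {x : A} (hx : x ∈ I) : Rule p (fun i => D.d^[i] x) := fun i => by
  show _ = _ * D.d^[i + 1] x
  rw [Function.iterate_succ_apply', D.fact _ (D.iter_mem hx i)]

variable (a x y : A)

/-- The monomials. -/
noncomputable def Data.Mon (i m n : ℕ) : P3 × A :=
  ((MvPolynomial.X 0, a) : P3 × A) ^ i * mon p (D.it (MvPolynomial.X 1, x)) m *
    mon p (D.it (MvPolynomial.X 2, y)) n

/-- Combinations of monomials (`pos`: of positive degree in `x, y`). -/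
noncomputable def Data.S (pos : Bool) : AddSubgroup (P3 × A) :=
  AddSubgroup.closure {w | ∃ N i m n : ℕ, ¬ p ∣ N ∧ (pos = true → 0 < m + n) ∧ w = iv A N * D.Mon a x y i m n}

variable {a x y}
variable {hx : x ∈ I} {hy : y ∈ I}

theorem Data.mem_S {b : Bool} (N i m n : ℕ) (hN : ¬ p ∣ N) (h : b = true → 0 < m + n) :
    iv A N * D.Mon a x y i m n ∈ D.S a x y b :=
  AddSubgroup.subset_closure ⟨N, i, m, n, hN, h, rfl⟩

theorem iv_mul (N M : ℕ) (_hN : ¬ p ∣ N) (_hM : ¬ p ∣ M) (_D : Data p I) : iv A N * iv A M = iv A (N * M) := by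
  refine Prod.ext ?_ ?_
  · simp only [iv, Prod.fst_mul, Nat.cast_mul, mul_inv, map_mul]
  · simp only [iv, Prod.snd_mul, Nat.cast_mul]
    rw [Ring.mul_inverse_rev, mul_comm]

theorem Data.S_le : D.S a x y true ≤ D.S a x y false :=
  AddSubgroup.closure_mono fun _ ⟨N, i, m, n, hN, _, h⟩ => ⟨N, i, m, n, hN, fun h => absurd h (by simp), h⟩

include hx hy in
theorem Data.mul_mem (b : Bool) {v w : P3 × A} (hv : v ∈ D.S a x y b) (hw : w ∈ D.S a x y false) :
    v * w ∈ D.S a x y b := by
  induction hv using AddSubgroup.closure_induction with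
  | mem v hv =>
    induction hw using AddSubgroup.closure_induction with
    | mem w hw =>
      obtain ⟨N, i, m, n, hN, hpos, rfl⟩ := hv
      obtain ⟨N', i', m', n', hN', -, rfl⟩ := hw
      obtain ⟨c, hc⟩ := mon_mul p (D.rule (w := (MvPolynomial.X 1, x)) hx) m m'
      obtain ⟨c', hc'⟩ := mon_mul p (D.rule (w := (MvPolynomial.X 2, y)) hy) n n'
      have : iv A N * D.Mon a x y i m n * (iv A N' * D.Mon a x y i' m' n') =
          (c * c') • (iv A (N * N') * D.Mon a x y (i + i') (m + m') (n + n')) := by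
        rw [← iv_mul N N' hN hN' D, nsmul_eq_mul, Nat.cast_mul]
        simp only [Data.Mon, pow_add]
        linear_combination (iv A N * iv A N' * ((MvPolynomial.X 0, a) : P3 × A) ^ i * (MvPolynomial.X 0, a) ^ i' *
          mon p (D.it (MvPolynomial.X 2, y)) n * mon p (D.it (MvPolynomial.X 2, y)) n') * hc +
          (iv A N * iv A N' * ((MvPolynomial.X 0, a) : P3 × A) ^ i * (MvPolynomial.X 0, a) ^ i' *
          (c : P3 × A) * mon p (D.it (MvPolynomial.X 1, x)) (m + m')) * hc'
      rw [this]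
      refine AddSubgroup.nsmul_mem _ (D.mem_S (b := b) _ _ _ _ (hp.out.not_dvd_mul hN hN') fun h => ?_) _
      have := hpos h
      omega
    | zero => rw [mul_zero]; exact zero_mem _
    | add _ _ _ _ h1 h2 => rw [mul_add]; exact add_mem h1 h2
    | neg _ _ h1 => rw [mul_neg]; exact neg_mem h1
  | zero => rw [zero_mul]; exact zero_mem _
  | add _ _ _ _ h1 h2 => rw [add_mul]; exact add_mem h1 h2
  | neg _ _ h1 => rw [neg_mul]; exact neg_mem h1

theorem iv_one : iv A 1 = 1 := Prod.ext (by simp [iv]) (by simp [iv])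

theorem Data.Mon_mem {i m n : ℕ} (b : Bool) (h : b = true → 0 < m + n) :
    D.Mon a x y i m n ∈ D.S a x y b :=
  AddSubgroup.subset_closure ⟨1, i, m, n, hp.out.not_dvd_one, h, by rw [iv_one, one_mul]⟩

theorem Data.iv_mem {N : ℕ} (hN : ¬ p ∣ N) : iv A N ∈ D.S a x y false :=
  AddSubgroup.subset_closure ⟨N, 0, 0, 0, hN, by simp, by simp [Data.Mon, mon_zero]⟩

theorem Data.one_mem : (1 : P3 × A) ∈ D.S a x y false := iv_one (A := A) ▸ D.iv_mem hp.out.not_dvd_one

include hx hy in
theorem Data.pow_mem {v : P3 × A} (hv : v ∈ D.S a x y false) (k : ℕ) : v ^ k ∈ D.S a x y false := by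
  induction k with
  | zero => rw [pow_zero]; exact D.one_mem
  | succ k ih => rw [pow_succ]; exact D.mul_mem (hx := hx) (hy := hy) false ih hv

include hx hy in
theorem Data.pow_mem' {v : P3 × A} (hv : v ∈ D.S a x y true) {k : ℕ} (hk : k ≠ 0) : v ^ k ∈ D.S a x y true := by
  obtain ⟨j, rfl⟩ := Nat.exists_eq_succ_of_ne_zero hk
  rw [pow_succ']
  exact D.mul_mem (hx := hx) (hy := hy) true hv (D.pow_mem (hx := hx) (hy := hy) (D.S_le hv) j)

include hx hy in
theorem Data.mon_mem {e : ℕ → P3 × A} (he : ∀ i, e i ∈ D.S a x y true) (n : ℕ) :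
    mon p e n ∈ D.S a x y false ∧ (n ≠ 0 → mon p e n ∈ D.S a x y true) := by
  induction n using Nat.strong_induction_on generalizing e with
  | _ n ih =>
    rcases eq_or_ne n 0 with rfl | hn
    · exact ⟨by rw [mon_zero]; exact D.one_mem, fun h => absurd rfl h⟩
    rw [mon_eq]
    obtain ⟨h1, h2⟩ := ih _ (div_lt p hn) (e := fun i => e (i + 1)) fun i => he _
    have key : e 0 ^ (n % p) * mon p (fun i => e (i + 1)) (n / p) ∈ D.S a x y true := by
      rcases eq_or_ne (n % p) 0 with h0 | h0
      · rw [h0, pow_zero, one_mul]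
        refine h2 fun hq => hn ?_
        have := Nat.div_add_mod n p
        rw [h0, hq] at this
        omega
      · exact D.mul_mem (hx := hx) (hy := hy) true (D.pow_mem' (hx := hx) (hy := hy) (he 0) h0) h1
    exact ⟨D.S_le key, fun _ => key⟩

include hx hy in
theorem Data.snd_mem {v : P3 × A} (hv : v ∈ D.S a x y true) : v.2 ∈ I := by
  induction hv using AddSubgroup.closure_induction with
  | mem v hv =>
    obtain ⟨N, i, m, n, hN, hpos, rfl⟩ := hv
    have hmon : ∀ (z : P3 × A), z.2 ∈ I → ∀ k, k ≠ 0 → (mon p (D.it z) k).2 ∈ I := by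
      intro z hz k
      induction k using Nat.strong_induction_on generalizing z with
      | _ k ih =>
        intro hk
        rw [mon_eq, Prod.snd_mul, Prod.pow_snd, D.it_zero]
        rcases eq_or_ne (k % p) 0 with h0 | h0
        · refine I.mul_mem_left _ ?_
          rw [show (fun i => D.it z (i + 1)) = D.it (D.DD z) from funext fun i => Function.iterate_succ_apply _ _ _]
          refine ih _ (div_lt p hk) _ (D.mem _ hz) fun hq => hk ?_
          have := Nat.div_add_mod k p
          rw [h0, hq] at this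
          omega
        · exact I.mul_mem_right _ (I.pow_mem_of_mem hz _ (Nat.pos_of_ne_zero h0))
    simp only [Data.Mon, Prod.snd_mul]
    rcases eq_or_ne m 0 with rfl | hm
    · exact I.mul_mem_left _ (I.mul_mem_left _ (hmon _ hy n (by have := hpos rfl; omega)))
    · exact I.mul_mem_left _ (I.mul_mem_right _ (I.mul_mem_left _ (hmon _ hx m hm)))
  | zero => exact I.zero_mem
  | add _ _ _ _ h1 h2 => exact I.add_mem h1 h2
  | neg _ _ h1 => exact I.neg_mem h1

theorem Data.DD_smul (c z : P3 × A) (hz : z.2 ∈ I) : D.DD (c * z) = c ^ p * D.DD z := by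
  refine Prod.ext ?_ ?_
  · simp only [Data.DD, dQ, Prod.fst_mul, Prod.pow_fst, mul_pow]; ring
  · simp only [Data.DD, Prod.snd_mul, Prod.pow_snd]; exact D.smul _ _ hz

theorem Data.DD_add (v w : P3 × A) (hv : v.2 ∈ I) (hw : w.2 ∈ I) :
    D.DD (v + w) = D.DD v + D.DD w + ((Finset.antidiagonal p).filter fun k => 0 < k.1 ∧ 0 < k.2).sum
      fun k => iv A (k.1 ! * k.2 !) * v ^ k.1 * w ^ k.2 := by
  refine Prod.ext ?_ ?_
  · simp only [Data.DD, dQ, Prod.fst_add, Prod.fst_sum, Prod.fst_mul, Prod.pow_fst, iv]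
    rw [(Commute.all v.1 w.1).add_pow', Finset.mul_sum,
      ← Finset.sum_filter_add_sum_filter_not (Finset.antidiagonal p) (fun k => 0 < k.1 ∧ 0 < k.2), add_comm]
    have hset : (Finset.antidiagonal p).filter (fun k => ¬(0 < k.1 ∧ 0 < k.2)) = {(p, 0), (0, p)} := by
      ext ⟨i, j⟩
      have := hp.out.pos
      simp only [Finset.mem_filter, Finset.mem_antidiagonal, Finset.mem_insert, Finset.mem_singleton,
        Prod.mk.injEq]
      omega
    rw [hset, Finset.sum_pair (by simp [hp.out.ne_zero])]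
    congr 1
    · simp
    · refine Finset.sum_congr rfl fun k hk => ?_
      rw [Finset.mem_filter, Finset.mem_antidiagonal] at hk
      have e : ((p.choose k.1 : ℕ) : ℚ) * (p ! : ℚ)⁻¹ = ((k.1 ! * k.2 ! : ℕ) : ℚ)⁻¹ := by
        have h := Nat.choose_mul_factorial_mul_factorial (show k.1 ≤ p by omega)
        rw [show p - k.1 = k.2 by omega] at h
        rw [← h]
        have := Nat.choose_pos (show k.1 ≤ p by omega)
        push_cast
        field_simp
      rw [← e, map_mul, map_natCast, nsmul_eq_mul]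
      ring
  · simp only [Data.DD, Prod.snd_add, Prod.snd_sum, Prod.snd_mul, Prod.pow_snd, iv]
    exact D.add _ hv _ hw

include hx hy in
theorem Data.DD_mem {v : P3 × A} (hv : v ∈ D.S a x y true) : D.DD v ∈ D.S a x y true := by
  have hbase : ∀ z : P3 × A, z.2 ∈ I → (∀ i, D.it z i ∈ D.S a x y true) → ∀ k, k ≠ 0 →
      D.DD (mon p (D.it z) k) ∈ D.S a x y true := by
    intro z hz hit k
    induction k using Nat.strong_induction_on generalizing z with
    | _ k ih =>
      intro hk
      have hsh : (fun i => D.it z (i + 1)) = D.it (D.DD z) := funext fun i => Function.iterate_succ_apply _ _ _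
      rw [mon_eq, D.it_zero]
      rcases eq_or_ne (k % p) 0 with h0 | h0
      · rw [h0, pow_zero, one_mul, hsh]
        refine ih _ (div_lt p hk) _ (D.mem _ hz) (fun i => ?_) fun hq => hk ?_
        · rw [← congrFun hsh i]; exact hit _
        · have := Nat.div_add_mod k p
          rw [h0, hq] at this
          omega
      · obtain ⟨r, hr⟩ := Nat.exists_eq_succ_of_ne_zero h0
        rw [hr, pow_succ, mul_right_comm, D.DD_smul _ _ hz, mul_comm]
        refine D.mul_mem (hx := hx) (hy := hy) true (by rw [← show D.it z 1 = D.DD z from rfl]; exact hit 1)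
          (D.pow_mem (hx := hx) (hy := hy) (D.mul_mem (hx := hx) (hy := hy) false
            (D.pow_mem (hx := hx) (hy := hy) (D.S_le (hit 0)) r) (D.mon_mem (hx := hx) (hy := hy) (fun i => hit _) _).1) p)
  have hX : ∀ i, D.it (MvPolynomial.X 1, x) i ∈ D.S a x y true := fun i => by
    have := D.Mon_mem (a := a) (x := x) (y := y) (i := 0) (m := p ^ i) (n := 0) true
      (fun _ => by have := pow_pos hp.out.pos i; omega)
    simpa [Data.Mon, mon_zero, mon_pow] using this
  have hY : ∀ i, D.it (MvPolynomial.X 2, y) i ∈ D.S a x y true := fun i => by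
    have := D.Mon_mem (a := a) (x := x) (y := y) (i := 0) (m := 0) (n := p ^ i) true
      (fun _ => by have := pow_pos hp.out.pos i; omega)
    simpa [Data.Mon, mon_zero, mon_pow] using this
  have key : D.DD v ∈ D.S a x y true ∧ v ∈ D.S a x y true := by
    induction hv using AddSubgroup.closure_induction with
    | mem v hv =>
      refine ⟨?_, AddSubgroup.subset_closure hv⟩
      obtain ⟨N, i, m, n, hN, hpos, rfl⟩ := hv
      have hc : ∀ k l, iv A N * ((MvPolynomial.X 0, a) : P3 × A) ^ k * l = iv A N * (D.Mon a x y k 0 0) * l :=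
        fun k l => by simp [Data.Mon, mon_zero]
      rcases eq_or_ne m 0 with rfl | hm
      · have hn : n ≠ 0 := by have := hpos rfl; omega
        rw [show iv A N * D.Mon a x y i 0 n = iv A N * D.Mon a x y i 0 0 * mon p (D.it (MvPolynomial.X 2, y)) n by
          simp [Data.Mon, mon_zero, mul_assoc]]
        rw [D.DD_smul _ _ (D.snd_mem (hx := hx) (hy := hy) ((D.mon_mem (hx := hx) (hy := hy) hY n).2 hn)), mul_comm]
        exact D.mul_mem (hx := hx) (hy := hy) true (hbase _ hy hY n hn) (D.pow_mem (hx := hx) (hy := hy)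
          (D.mul_mem (hx := hx) (hy := hy) false (D.iv_mem hN) (D.Mon_mem false (by simp))) p)
      · rw [show iv A N * D.Mon a x y i m n = iv A N * D.Mon a x y i 0 n * mon p (D.it (MvPolynomial.X 1, x)) m by
          simp [Data.Mon, mon_zero]; ring]
        rw [D.DD_smul _ _ (D.snd_mem (hx := hx) (hy := hy) ((D.mon_mem (hx := hx) (hy := hy) hX m).2 hm)), mul_comm]
        exact D.mul_mem (hx := hx) (hy := hy) true (hbase _ hx hX m hm) (D.pow_mem (hx := hx) (hy := hy)
          (D.mul_mem (hx := hx) (hy := hy) false (D.iv_mem hN) (D.Mon_mem false (by simp))) p)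
    | zero =>
      refine ⟨?_, zero_mem _⟩
      have := D.DD_smul 0 0 I.zero_mem
      rw [zero_mul, zero_pow hp.out.ne_zero, zero_mul] at this
      rw [this]; exact zero_mem _
    | add v w _ _ h1 h2 =>
      refine ⟨?_, add_mem h1.2 h2.2⟩
      rw [D.DD_add _ _ (D.snd_mem (hx := hx) (hy := hy) h1.2) (D.snd_mem (hx := hx) (hy := hy) h2.2)]
      refine add_mem (add_mem h1.1 h2.1) (sum_mem fun k hk => ?_)
      rw [Finset.mem_filter, Finset.mem_antidiagonal] at hk
      have hN : ¬ p ∣ k.1 ! * k.2 ! := hp.out.not_dvd_mul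
        (fun h => absurd (hp.out.dvd_factorial.mp h) (by omega)) (fun h => absurd (hp.out.dvd_factorial.mp h) (by omega))
      rw [mul_right_comm, mul_comm (iv A _ * _)]
      exact D.mul_mem (hx := hx) (hy := hy) true (D.pow_mem' (hx := hx) (hy := hy) h1.2 (by omega))
        (D.mul_mem (hx := hx) (hy := hy) false (D.iv_mem hN) (D.pow_mem (hx := hx) (hy := hy) (D.S_le h2.2) _))
    | neg v _ h1 =>
      refine ⟨?_, neg_mem h1.2⟩
      rw [← neg_one_mul, D.DD_smul _ _ (D.snd_mem (hx := hx) (hy := hy) h1.2)]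
      rcases neg_one_pow_eq_or (P3 × A) p with h | h <;> rw [h]
      · rw [one_mul]; exact h1.1
      · rw [neg_one_mul]; exact neg_mem h1.1
  exact key.1

open MvPolynomial in
include hx hy in
theorem Data.eq_of_fst_eq {v w : P3 × A} (hv : v ∈ D.S a x y false) (hw : w ∈ D.S a x y false)
    (h : v.1 = w.1) : v = w := by
  classical
  have hcomb : ∀ z ∈ D.S a x y false, ∃ N : ℕ, ¬ p ∣ N ∧ ∃ c : ℕ × ℕ × ℕ →₀ ℤ,
      (N : P3 × A) * z = c.sum fun t r => r • D.Mon a x y t.1 t.2.1 t.2.2 := by
    intro z hz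
    induction hz using AddSubgroup.closure_induction with
    | mem z hz =>
      obtain ⟨N, i, m, n, hN, -, rfl⟩ := hz
      refine ⟨N, hN, Finsupp.single (i, m, n) 1, ?_⟩
      have h1 : (N : P3 × A) * iv A N = 1 := by
        refine Prod.ext ?_ ?_
        · have : (N : ℚ) ≠ 0 := Nat.cast_ne_zero.mpr fun h => hN (h ▸ dvd_zero p)
          simp only [iv, Prod.fst_mul, Prod.fst_natCast, Prod.fst_one]
          rw [← map_natCast (C : ℚ →+* P3), ← map_mul, mul_inv_cancel₀ this, map_one]
        · simp [iv, Ring.mul_inverse_cancel _ (D.isUnit N hN)]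
      rw [Finsupp.sum_single_index (by simp), ← mul_assoc, h1, one_mul, one_smul]
    | zero => exact ⟨1, hp.out.not_dvd_one, 0, by simp⟩
    | add z z' _ _ h1 h2 =>
      obtain ⟨N, hN, c, hc⟩ := h1
      obtain ⟨N', hN', c', hc'⟩ := h2
      refine ⟨N * N', hp.out.not_dvd_mul hN hN', (N' : ℤ) • c + (N : ℤ) • c', ?_⟩
      rw [Finsupp.sum_add_index' (by simp) (by simp [add_smul]), Finsupp.sum_smul_index' (by simp),
        Finsupp.sum_smul_index' (by simp)]
      simp only [smul_eq_mul, mul_smul, ← Finsupp.smul_sum, ← hc, ← hc']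
      simp only [zsmul_eq_mul, Int.cast_natCast, Nat.cast_mul]
      ring
    | neg z _ h1 =>
      obtain ⟨N, hN, c, hc⟩ := h1
      exact ⟨N, hN, -c, by rw [Finsupp.sum_neg_index (by simp), mul_neg, hc]; simp [Finsupp.sum_neg]⟩
  suffices H : ∀ z ∈ D.S a x y false, z.1 = 0 → z = 0 by
    exact sub_eq_zero.mp (H _ (sub_mem hv hw) (by rw [Prod.fst_sub, h, sub_self]))
  intro z hz hz0
  obtain ⟨N, hN, c, hc⟩ := hcomb z hz
  refine Prod.ext hz0 ?_
  let ex : ℕ × ℕ × ℕ → (Fin 3 →₀ ℕ) := fun t =>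
    Finsupp.single 0 t.1 + Finsupp.single 1 t.2.1 + Finsupp.single 2 t.2.2
  have hex : Function.Injective ex := fun t t' h => by
    have e0 := congrArg (fun f : Fin 3 →₀ ℕ => f 0) h
    have e1 := congrArg (fun f : Fin 3 →₀ ℕ => f 1) h
    have e2 := congrArg (fun f : Fin 3 →₀ ℕ => f 2) h
    simp [ex] at e0 e1 e2
    exact Prod.ext e0 (Prod.ext e1 e2)
  have hfstmon : ∀ (f : P3) (b : A), b ∈ I → ∀ k, (mon p (D.it (f, b)) k).1 = C ((K p k : ℚ)⁻¹) * f ^ k := by
    intro f b hb k
    have h := congrArg Prod.fst (K_mul_mon p (D.rule (w := (f, b)) hb) k)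
    rw [Prod.fst_mul, Prod.fst_natCast, D.it_zero, Prod.pow_fst] at h
    rw [← h, ← mul_assoc, ← map_natCast (C : ℚ →+* P3), ← map_mul,
      inv_mul_cancel₀ (Nat.cast_ne_zero.mpr (K_ne_zero p k)), map_one, one_mul]
  have hfst : ∀ t : ℕ × ℕ × ℕ, (D.Mon a x y t.1 t.2.1 t.2.2).1 =
      monomial (ex t) ((K p t.2.1 : ℚ)⁻¹ * (K p t.2.2 : ℚ)⁻¹) := by
    intro t
    simp only [Data.Mon, Prod.fst_mul, Prod.pow_fst, hfstmon _ _ hx, hfstmon _ _ hy, X_pow_eq_monomial,
      C_mul_monomial, monomial_mul, ex]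
    simp
  have hc0 : c = 0 := by
    have h := congrArg Prod.fst hc
    rw [Prod.fst_mul, hz0, mul_zero, Finsupp.sum, Prod.fst_sum] at h
    ext t
    have h' := congrArg (MvPolynomial.coeff (ex t)) h
    rw [coeff_zero, coeff_sum] at h'
    simp only [Prod.smul_fst, hfst, coeff_smul, coeff_monomial] at h'
    rw [Finset.sum_eq_single t (fun b _ hb => by rw [if_neg (hex.ne hb), smul_zero])
      (fun hb => by rw [Finsupp.notMem_support_iff.mp hb, zero_smul]), if_pos rfl, zsmul_eq_mul] at h'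
    have hne : ((K p t.2.1 : ℚ)⁻¹ * (K p t.2.2 : ℚ)⁻¹) ≠ 0 := by simp [K_ne_zero]
    simpa [hne] using h'.symm
  rw [hc0, Finsupp.sum_zero_index] at hc
  have h2 := congrArg Prod.snd hc
  simpa [(D.isUnit N hN).mul_right_eq_zero] using h2

/-- The divided power in the pair ring. -/
noncomputable def Data.G (n : ℕ) (w : P3 × A) : P3 × A := iv A (W p n) * mon p (D.it w) n

theorem Data.G_snd (n : ℕ) (w : P3 × A) : (D.G n w).2 = D.γ n w.2 := by
  rw [Data.G, Data.γ, Prod.snd_mul]
  refine congrArg (_ * ·) ?_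
  refine (map_mon p (RingHom.snd P3 A) (D.it w) n).trans (congrArg (fun e => mon p e n) (funext fun i => ?_))
  exact D.it_snd w i

theorem Data.G_fst (n : ℕ) {w : P3 × A} (hw : w.2 ∈ I) :
    (D.G n w).1 = MvPolynomial.C ((n ! : ℚ)⁻¹) * w.1 ^ n := by
  have h := congrArg Prod.fst (K_mul_mon p (D.rule hw) n)
  rw [Prod.fst_mul, Prod.fst_natCast, D.it_zero, Prod.pow_fst] at h
  rw [Data.G, Prod.fst_mul, ← h, ← W_mul_K p n, ← mul_assoc, ← map_natCast (MvPolynomial.C : ℚ →+* P3), ← map_mul]
  congr 2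
  simp only [iv]
  rw [Nat.cast_mul, mul_inv, mul_assoc, inv_mul_cancel₀ (Nat.cast_ne_zero.mpr (K_ne_zero p n)), mul_one]

include hx hy in
theorem Data.G_mem {w : P3 × A} (hw : w ∈ D.S a x y true) (n : ℕ) :
    D.G n w ∈ D.S a x y false ∧ (n ≠ 0 → D.G n w ∈ D.S a x y true) := by
  have hit : ∀ i, D.it w i ∈ D.S a x y true := fun i => by
    induction i with
    | zero => exact hw
    | succ i ih => rw [it_succ]; exact D.DD_mem (hx := hx) (hy := hy) ih
  obtain ⟨h1, h2⟩ := D.mon_mem (hx := hx) (hy := hy) hit n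
  exact ⟨D.mul_mem (hx := hx) (hy := hy) false (D.iv_mem (not_dvd_W p n)) h1, fun hn => by
    rw [Data.G, mul_comm]; exact D.mul_mem (hx := hx) (hy := hy) true (h2 hn) (D.iv_mem (not_dvd_W p n))⟩

theorem Data.Xz_mem : ((MvPolynomial.X 1, x) : P3 × A) ∈ D.S a x y true ∧
    ((MvPolynomial.X 2, y) : P3 × A) ∈ D.S a x y true ∧ ((MvPolynomial.X 0, a) : P3 × A) ∈ D.S a x y false := by
  have h1 := D.Mon_mem (a := a) (x := x) (y := y) (i := 0) (m := 1) (n := 0) true (by simp)
  have h2 := D.Mon_mem (a := a) (x := x) (y := y) (i := 0) (m := 0) (n := 1) true (by simp)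
  have h3 := D.Mon_mem (a := a) (x := x) (y := y) (i := 1) (m := 0) (n := 0) false (by simp)
  simp [Data.Mon, mon_zero, mon_of_lt p _ hp.out.one_lt, Data.it_zero] at h1 h2 h3
  exact ⟨h1, h2, h3⟩

theorem W_one : W p 1 = 1 := by
  have := W_mul_K p 1
  rw [K_eq, Nat.div_eq_of_lt hp.out.one_lt] at this
  simpa [K] using this

theorem Data.γ_zero (z : A) : D.γ 0 z = 1 := by simp [Data.γ, W, mon_zero]

theorem Data.γ_one (z : A) : D.γ 1 z = z := by
  simp [Data.γ, W_one, mon_of_lt p _ hp.out.one_lt]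

theorem W_p : W p p = 1 := by
  have h := W_mul_K p p
  rw [K_eq, Nat.div_self hp.out.pos, pow_one, K_eq, Nat.div_eq_of_lt hp.out.one_lt] at h
  simp [K] at h
  first
    | exact h
    | exact Nat.eq_of_mul_eq_mul_right (Nat.factorial_pos p) (h.trans (one_mul _).symm)
    | exact (h.resolve_right (Nat.factorial_ne_zero p))

theorem Data.γ_p (z : A) : D.γ p z = D.d z := by
  rw [Data.γ, W_p, Nat.cast_one, Ring.inverse_one, one_mul]
  simpa using mon_pow p (fun i => D.d^[i] z) 1

/-- The divided power structure. -/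
noncomputable def Data.toDP [DecidablePred (· ∈ I)] : DividedPowers I where
  dpow n z := if z ∈ I then D.γ n z else 0
  dpow_null h := if_neg h
  dpow_zero h := by rw [if_pos h, D.γ_zero]
  dpow_one h := by rw [if_pos h, D.γ_one]
  dpow_mem {n z} hn h := by
    rw [if_pos h, ← D.G_snd n ((MvPolynomial.X 1, z) : P3 × A)]
    exact D.snd_mem (a := 0) (hx := h) (hy := I.zero_mem)
      ((D.G_mem (hx := h) (hy := I.zero_mem) (D.Xz_mem (a := 0) (x := z) (y := 0)).1 n).2 hn)
  dpow_add {n u v} hu hv := by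
    rw [if_pos (I.add_mem hu hv)]
    obtain ⟨m1, m2, -⟩ := D.Xz_mem (a := (0 : A)) (x := u) (y := v)
    have key := D.eq_of_fst_eq (hx := hu) (hy := hv) (D.G_mem (hx := hu) (hy := hv) (add_mem m1 m2) n).1
      (w := (Finset.antidiagonal n).sum fun k =>
        D.G k.1 ((MvPolynomial.X 1, u) : P3 × A) * D.G k.2 ((MvPolynomial.X 2, v) : P3 × A))
      (sum_mem fun k _ => D.mul_mem (hx := hu) (hy := hv) false (D.G_mem (hx := hu) (hy := hv) m1 _).1
        (D.G_mem (hx := hu) (hy := hv) m2 _).1) (by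
      rw [Prod.fst_sum, D.G_fst n (w := (MvPolynomial.X 1, u) + (MvPolynomial.X 2, v)) (I.add_mem hu hv),
        Prod.fst_add, (Commute.all _ _).add_pow', Finset.mul_sum]
      refine Finset.sum_congr rfl fun k hk => ?_
      rw [Finset.mem_antidiagonal] at hk
      rw [Prod.fst_mul, D.G_fst _ (show ((MvPolynomial.X 1, u) : P3 × A).2 ∈ I from hu),
        D.G_fst _ (show ((MvPolynomial.X 2, v) : P3 × A).2 ∈ I from hv)]
      have e : ((n.choose k.1 : ℕ) : ℚ) * (n ! : ℚ)⁻¹ = (k.1 ! : ℚ)⁻¹ * (k.2 ! : ℚ)⁻¹ := by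
        have h := Nat.choose_mul_factorial_mul_factorial (show k.1 ≤ n by omega)
        rw [show n - k.1 = k.2 by omega] at h
        rw [← h]
        have := Nat.choose_pos (show k.1 ≤ n by omega)
        push_cast
        field_simp
      rw [nsmul_eq_mul, ← map_natCast (MvPolynomial.C : ℚ →+* P3), mul_mul_mul_comm, ← map_mul, ← e, map_mul]
      ring)
    have h := congrArg Prod.snd key
    rw [D.G_snd, Prod.snd_sum] at h
    refine h.trans (Finset.sum_congr rfl fun k _ => ?_)
    rw [Prod.snd_mul, D.G_snd, D.G_snd, if_pos hu, if_pos hv]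
  dpow_mul {n c z} hz := by
    rw [if_pos (I.mul_mem_left c hz), if_pos hz]
    obtain ⟨m1, -, m3⟩ := D.Xz_mem (a := c) (x := z) (y := (0 : A))
    have hm : (MvPolynomial.X 0, c) * (MvPolynomial.X 1, z) ∈ D.S c z 0 true := by
      rw [mul_comm]; exact D.mul_mem (hx := hz) (hy := I.zero_mem) true m1 m3
    have key := D.eq_of_fst_eq (hx := hz) (hy := I.zero_mem) (D.G_mem (hx := hz) (hy := I.zero_mem) hm n).1
      (D.mul_mem (hx := hz) (hy := I.zero_mem) false (D.pow_mem (hx := hz) (hy := I.zero_mem) m3 n)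
        (D.G_mem (hx := hz) (hy := I.zero_mem) m1 n).1) (by
      rw [D.G_fst n (w := (MvPolynomial.X 0, c) * (MvPolynomial.X 1, z)) (I.mul_mem_left c hz), Prod.fst_mul,
        Prod.fst_mul, D.G_fst n (w := (MvPolynomial.X 1, z)) hz, Prod.pow_fst]
      ring)
    have h := congrArg Prod.snd key
    rwa [D.G_snd, Prod.snd_mul, Prod.snd_mul, D.G_snd, Prod.pow_snd] at h
  mul_dpow {m n z} hz := by
    simp only [if_pos hz]
    obtain ⟨m1, -, -⟩ := D.Xz_mem (a := (0 : A)) (x := z) (y := (0 : A))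
    have hG := fun k => (D.G_mem (hx := hz) (hy := I.zero_mem) m1 k).1
    have key := D.eq_of_fst_eq (hx := hz) (hy := I.zero_mem)
      (D.mul_mem (hx := hz) (hy := I.zero_mem) false (hG m) (hG n))
      (w := (((m + n).choose m : ℕ) : P3 × A) * D.G (m + n) ((MvPolynomial.X 1, z) : P3 × A))
      (by rw [← nsmul_eq_mul]; exact AddSubgroup.nsmul_mem _ (hG _) _) (by
      rw [Prod.fst_mul, Prod.fst_mul, Prod.fst_natCast]
      simp only [D.G_fst _ (show ((MvPolynomial.X 1, z) : P3 × A).2 ∈ I from hz)]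
      have e : (((m + n).choose m : ℕ) : ℚ) * ((m + n)! : ℚ)⁻¹ = (m ! : ℚ)⁻¹ * (n ! : ℚ)⁻¹ := by
        have h := Nat.choose_mul_factorial_mul_factorial (show m ≤ m + n by omega)
        rw [Nat.add_sub_cancel_left] at h
        rw [← h]
        have := Nat.choose_pos (show m ≤ m + n by omega)
        push_cast
        field_simp
      have e' := congrArg (MvPolynomial.C : ℚ →+* P3) e
      rw [map_mul, map_mul, map_natCast] at e'
      rw [pow_add]
      linear_combination -((MvPolynomial.X 1 : P3) ^ m * (MvPolynomial.X 1 : P3) ^ n) * e')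
    have h := congrArg Prod.snd key
    rwa [Prod.snd_mul, Prod.snd_mul, D.G_snd, D.G_snd, D.G_snd, Prod.snd_natCast] at h
  dpow_comp {m n z} hn hz := by
    obtain ⟨m1, -, -⟩ := D.Xz_mem (a := (0 : A)) (x := z) (y := (0 : A))
    obtain ⟨hGn, hGn'⟩ := D.G_mem (hx := hz) (hy := I.zero_mem) m1 n
    have hmem : D.γ n z ∈ I := by
      have := D.snd_mem (hx := hz) (hy := I.zero_mem) (hGn' hn)
      rwa [D.G_snd] at this
    rw [if_pos hz, if_pos hmem, if_pos hz]
    have key := D.eq_of_fst_eq (hx := hz) (hy := I.zero_mem)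
      (D.G_mem (hx := hz) (hy := I.zero_mem) (hGn' hn) m).1
      (w := ((Nat.uniformBell m n : ℕ) : P3 × A) * D.G (m * n) ((MvPolynomial.X 1, z) : P3 × A))
      (by rw [← nsmul_eq_mul]; exact AddSubgroup.nsmul_mem _ (D.G_mem (hx := hz) (hy := I.zero_mem) m1 _).1 _) (by
      rw [D.G_fst m (w := D.G n (MvPolynomial.X 1, z)) (by rw [D.G_snd]; exact hmem), Prod.fst_mul, Prod.fst_natCast]
      simp only [D.G_fst _ (show ((MvPolynomial.X 1, z) : P3 × A).2 ∈ I from hz)]
      have e : ((Nat.uniformBell m n : ℕ) : ℚ) * ((m * n)! : ℚ)⁻¹ = (m ! : ℚ)⁻¹ * ((n ! : ℚ)⁻¹) ^ m := by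
        have h := Nat.uniformBell_mul_eq m hn
        have hb : Nat.uniformBell m n ≠ 0 := fun h0 => by
          rw [h0, zero_mul, zero_mul] at h
          exact Nat.factorial_ne_zero _ h.symm
        rw [← h]
        push_cast
        rw [inv_pow]
        field_simp
      rw [← map_natCast (MvPolynomial.C : ℚ →+* P3), ← mul_assoc, ← map_mul, e, map_mul, map_pow, mul_pow,
        ← pow_mul, mul_comm n m]
      ring)
    have h := congrArg Prod.snd key
    rwa [D.G_snd, D.G_snd, Prod.snd_mul, D.G_snd, Prod.snd_natCast] at h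

theorem Data.unique (δ : DividedPowers I) (hd : ∀ z ∈ I, δ.dpow p z = D.d z) (n : ℕ) :
    ∀ z ∈ I, (W p n : A) * δ.dpow n z = mon p (fun i => D.d^[i] z) n := by
  induction n using Nat.strong_induction_on with
  | _ n ih =>
    intro z hz
    rcases eq_or_ne n 0 with rfl | hn
    · simp [W, mon_zero, δ.dpow_zero hz]
    rw [mon_eq, show (fun i => D.d^[i + 1] z) = fun i => D.d^[i] (D.d z) from
      funext fun i => Function.iterate_succ_apply _ _ _, ← ih _ (div_lt p hn) _ (D.mem _ hz), ← hd z hz,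
      δ.dpow_comp hp.out.ne_zero hz, Function.iterate_zero_apply, ← δ.factorial_mul_dpow_eq_pow hz, W_eq]
    push_cast
    have hm := δ.mul_dpow (m := n % p) (n := n / p * p) hz
    rw [Nat.mod_add_div'] at hm
    linear_combination (((n % p)! : A) * (Nat.uniformBell (n / p) p : A) * (W p (n / p) : A)) * hm.symm

end Data

end Groth.Agent.DPFromP
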